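import Cfsg.Agent.Lib.Frobenius.Binary

/-!
# Simple sections of insoluble groups; the `(3, 5)` presentation of `SL(2, 5)`
-/

set_option autoImplicit false

namespace Cfsg.Lib.Small

open Subgroup Cfsg.Lib.Frobenius Matrix
open scoped MatrixGroups

universe u

/-- An insoluble finite group has a non-abelian simple section, whose order divides the order. -/
theorem exists_simple_card_dvd_aux (n : ℕ) : ∀ (G : Type u) [Group G] [Finite G], Nat.card G = n →
    ¬ Group.IsSolvable G → ∃ (S : Type u) (_ : Group S) (_ : Finite S), IsSimpleGroup S ∧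
      ¬ IsMulCommutative S ∧ Nat.card S ∣ n ∧ (Nat.card S = n → IsSimpleGroup G) := by
  induction n using Nat.strong_induction_on with
  | _ n ih =>
  intro G _ _ hn hG
  by_cases hs : IsSimpleGroup G
  · exact ⟨G, inferInstance, inferInstance, hs, fun h => hG (Group.isSolvable_of_comm fun a b => h.1.1 a b), hn ▸ dvd_rfl, fun _ => hs⟩
  have hnt : Nontrivial G := by
    by_contra h
    rw [not_nontrivial_iff_subsingleton] at h
    exact hG inferInstance
  obtain ⟨N, hN, h0, h1⟩ : ∃ N : Subgroup G, N.Normal ∧ N ≠ ⊥ ∧ N ≠ ⊤ := by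
    by_contra h
    push Not at h
    exact hs ⟨fun N hN => by_contra fun h' => (not_or.1 h').2 (h N hN (not_or.1 h').1)⟩
  have hm : Nat.card N * N.index = n := hn ▸ N.card_mul_index
  have a1 : 1 < Nat.card N := (Subgroup.one_lt_card_iff_ne_bot N).2 h0
  have a2 : 1 < N.index := Subgroup.one_lt_index_of_ne_top h1
  by_cases hNs : Group.IsSolvable N
  · have hQ : ¬ Group.IsSolvable (G ⧸ N) := fun hQ => hG
      (Group.isSolvable_of_ker_le_range N.subtype (QuotientGroup.mk' N) (by simp))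
    have hlt : Nat.card (G ⧸ N) < n := by
      rw [← Subgroup.index_eq_card, ← hm]; nlinarith
    obtain ⟨S, _, _, b1, b2, b3, -⟩ := ih _ hlt (G ⧸ N) rfl hQ
    refine ⟨S, inferInstance, inferInstance, b1, b2, b3.trans ?_, fun h => ?_⟩
    · rw [← Subgroup.index_eq_card, ← hm]; exact Dvd.intro_left _ rfl
    · exact absurd (Nat.le_of_dvd Nat.card_pos b3) (by omega)
  · have hlt : Nat.card N < n := by rw [← hm]; nlinarith
    obtain ⟨S, _, _, b1, b2, b3, -⟩ := ih _ hlt N rfl hNs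
    refine ⟨S, inferInstance, inferInstance, b1, b2, b3.trans ?_, fun h => ?_⟩
    · rw [← hm]; exact Dvd.intro _ rfl
    · exact absurd (Nat.le_of_dvd Nat.card_pos b3) (by omega)

theorem exists_simple_card_dvd {G : Type u} [Group G] [Finite G] (hG : ¬ Group.IsSolvable G) :
    ∃ (S : Type u) (_ : Group S) (_ : Finite S), IsSimpleGroup S ∧
      ¬ IsMulCommutative S ∧ Nat.card S ∣ Nat.card G ∧ (Nat.card S = Nat.card G → IsSimpleGroup G) :=
  exists_simple_card_dvd_aux _ G rfl hG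

variable {G : Type*} [Group G] {x y z : G}

theorem card_binary_35 (hx : x ^ 3 = 1) (hy : y ^ 5 = 1) (hz : z ^ 2 = 1) (hxy : (x * y) ^ 2 = z)
    (cx : x * z = z * x) (cy : y * z = z * y) :
    Finite (closure {x, y, z} : Subgroup G) ∧ Nat.card (closure {x, y, z} : Subgroup G) ≤ 120 := by
  set K : Subgroup G := closure {x, y, z} with hK
  have mx : x ∈ K := subset_closure (by simp)
  have my : y ∈ K := subset_closure (by simp)
  have mz : z ∈ K := subset_closure (by simp)
  have hc : (⟨z, mz⟩ : K) ∈ center K := by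
    rw [Subgroup.mem_center_iff]
    rintro ⟨g, hg⟩
    have : K ≤ centralizer {z} := by
      rw [hK, closure_le]
      rintro _ (rfl | rfl | rfl) <;> simp [Subgroup.mem_centralizer_iff, cx, cy]
    exact Subtype.ext ((Subgroup.mem_centralizer_iff.1 (this hg)) z rfl).symm
  let N : Subgroup K := zpowers ⟨z, mz⟩
  haveI hN : N.Normal := ⟨fun n hn g => by
    have := Subgroup.mem_center_iff.1 ((zpowers_le_of_mem hc) hn) g
    rw [this]; simpa using hn⟩
  obtain ⟨f1, c1⟩ := finite_zpowers_of_pow (y := (⟨z, mz⟩ : K)) (n := 2) (by norm_num) (Subtype.ext hz)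
  have hz' : QuotientGroup.mk' N ⟨z, mz⟩ = 1 := (QuotientGroup.eq_one_iff _).2 (mem_zpowers _)
  obtain ⟨f2, c2⟩ := card_triangle_5 (x := QuotientGroup.mk' N ⟨x, mx⟩) (y := QuotientGroup.mk' N ⟨y, my⟩)
    (by rw [← map_pow, ← map_one (QuotientGroup.mk' N)]; congr 1; exact Subtype.ext hx)
    (by rw [← map_pow, ← map_one (QuotientGroup.mk' N)]; congr 1; exact Subtype.ext hy)
    (by rw [← map_mul, ← map_pow, ← hz']; congr 1; exact Subtype.ext hxy)
  have ht : (closure {QuotientGroup.mk' N ⟨x, mx⟩, QuotientGroup.mk' N ⟨y, my⟩} : Subgroup (K ⧸ N)) = ⊤ := by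
    rw [eq_top_iff]
    rintro q -
    obtain ⟨⟨g, hg⟩, rfl⟩ := QuotientGroup.mk'_surjective N q
    induction hg using closure_induction with
    | mem g hg =>
      rcases hg with rfl | rfl | rfl
      · exact subset_closure (by simp)
      · exact subset_closure (by simp)
      · exact hz' ▸ one_mem _
    | one => exact one_mem _
    | mul a b ha hb iha ihb => exact mul_mem iha ihb
    | inv a ha iha => exact inv_mem iha
  rw [ht] at f2 c2
  haveI : Finite (K ⧸ N) := Finite.of_surjective (⊤ : Subgroup (K ⧸ N)).subtype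
    fun q => ⟨⟨q, trivial⟩, rfl⟩
  rw [card_top] at c2
  haveI : Finite K := Finite.of_equiv _ (Subgroup.groupEquivQuotientProdSubgroup (s := N)).symm
  refine ⟨inferInstance, ?_⟩
  rw [Subgroup.card_eq_card_quotient_mul_card_subgroup N]
  exact (Nat.mul_le_mul c2 c1)

/-- An element of order three of `SL(2, 5)`. -/
def sl5X : SL(2, ZMod 5) := ⟨!![0, 4; 1, 4], by rw [det_fin_two]; decide⟩
/-- An element of order five of `SL(2, 5)`. -/
def sl5Y : SL(2, ZMod 5) := ⟨!![1, 1; 0, 1], by rw [det_fin_two]; decide⟩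

theorem sl5XY_rels : sl5X ^ 3 = 1 ∧ sl5Y ^ 5 = 1 ∧ (sl5X * sl5Y) ^ 2 = -1 ∧
    (sl5X * sl5Y⁻¹ * sl5X⁻¹).1 = !![1, 0; 1, 1] := by
  refine ⟨?_, ?_, ?_, ?_⟩
  · exact Subtype.ext (by decide)
  · exact Subtype.ext (by decide)
  · exact Subtype.ext (by decide)
  · decide

theorem exists_hom_sl_two_five' (hx : x ^ 3 = 1) (hy : y ^ 5 = 1) (hz : z ^ 2 = 1)
    (hxy : (x * y) ^ 2 = z) (cx : x * z = z * x) (cy : y * z = z * y) :
    ∃ f : SL(2, ZMod 5) →* G, f sl5X = x ∧ f sl5Y = y ∧ f (-1) = z ∧ f.range = closure {x, y, z} := by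
  obtain ⟨h1, h2, h3, h4⟩ := sl5XY_rels
  obtain ⟨c1, c2⟩ := card_binary_35 (x := (sl5X, x)) (y := (sl5Y, y)) (z := ((-1 : SL(2, ZMod 5)), z))
    (Prod.ext h1 hx) (Prod.ext h2 hy) (Prod.ext (by simp) hz) (Prod.ext h3 hxy)
    (Prod.ext (by simp) cx) (Prod.ext (by simp) cy)
  obtain ⟨f, hf, hr⟩ := exists_hom_of_card_closure_le (A := SL(2, ZMod 5))
    (s := {(sl5X, x), (sl5Y, y), (-1, z)}) (by
      have mx : sl5X ∈ Subgroup.closure (Prod.fst '' ({(sl5X, x), (sl5Y, y), (-1, z)} : Set (SL(2, ZMod 5) × G))) :=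
        Subgroup.subset_closure ⟨(sl5X, x), by simp, rfl⟩
      have my : sl5Y ∈ Subgroup.closure (Prod.fst '' ({(sl5X, x), (sl5Y, y), (-1, z)} : Set (SL(2, ZMod 5) × G))) :=
        Subgroup.subset_closure ⟨(sl5Y, y), by simp, rfl⟩
      exact sl_two_zmod_eq_top rfl h4 my (mul_mem (mul_mem mx (inv_mem my)) (inv_mem mx))) c1
    (c2.trans card_sl_two_five.ge)
  refine ⟨f, hf (sl5X, x) (by simp), hf (sl5Y, y) (by simp), hf (-1, z) (by simp), ?_⟩
  rw [hr]; simp [Set.image_insert_eq]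

end Cfsg.Lib.Small
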